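import Groth.Agent.KVbLib.TautRel
import Groth.Agent.KVbLib.LineRule
import Groth.Agent.PBundleLib.Main
import Groth.Agent.PBundleLib.Bundle
import Groth.Agent.NakaiLib.Push
import Groth.Agent.S4483
import Groth.Prelude.Def_KDet

/-!
# Direct images of powers of the tautological class of a projective bundle
-/

set_option autoImplicit false
set_option backward.isDefEq.respectTransparency false
set_option linter.style.haveILetI false
set_option linter.unusedSectionVars false
set_option maxHeartbeats 1000000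

universe v u

open CategoryTheory CategoryTheory.Limits AlgebraicGeometry LambdaRing

noncomputable section

namespace Groth.Agent.BundlePushLib

variable {X Y : Scheme.{u}} {π : X ⟶ Y} {E : Y.Modules} {O1 Om : X.Modules}
  {q : (Scheme.Modules.pullback π).obj E ⟶ O1}
  {KX KY : Type v} [CommRing KX] [LambdaOps KX] [CommRing KY] [LambdaOps KY] {PX : PosStructure KX}
  {PY : PosStructure KY} {φX : SGA6.Kvb X →+ KX} {φY : SGA6.Kvb Y →+ KY}

theorem pow_cl (hKX : KRR.IsModel X KX PX φX) {M : X.Modules} (hM : FlatMod.IsFinLocFree M) :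
    ∀ j : ℕ, FlatMod.IsFinLocFree (CohB1.tensorPow M j) ∧
      φX (KRR.cl X M) ^ j = φX (KRR.cl X (CohB1.tensorPow M j))
  | 0 => ⟨BCLib.isFinLocFree_structureModule X, (pow_zero _).trans hKX.map_one.symm⟩
  | j + 1 => ⟨DCohLib.isFinLocFree_tensor (pow_cl hKX hM j).1 hM, by
      rw [pow_succ, (pow_cl hKX hM j).2, hKX.map_mul _ _ (pow_cl hKX hM j).1 hM]; rfl⟩

/-- The rank is positive. -/
theorem exists_rank [ConnectedSpace X] {r : ℕ} (hE : FlatMod.IsFinLocFreeOfRank r E)
    (hP : KRR.IsProjBundle π E O1 q) : ∃ n, r = n + 1 := by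
  rcases r with - | n
  · haveI := PBundleLib.isZero_of_rank_zero hP hE
    exact isEmptyElim (Classical.arbitrary X)
  · exact ⟨n, rfl⟩

variable [HasInjectiveResolutions X.Modules] {g : KX →+ KY} {p : KY →+ KX}

/-- `π_*(π^* a ⊗ O(-j)) = δ_{j0} a` for `j ≤ r`. -/
theorem push_pull_mul_pow {r : ℕ} (hE : FlatMod.IsFinLocFreeOfRank (r + 1) E)
    (hP : KRR.IsProjBundle π E O1 q) (hOOm : ClSub.IsInverseOf O1 Om)
    (hKX : KRR.IsModel X KX PX φX) (hKY : KRR.IsModel Y KY PY φY)
    (hg : KDet.IsPushF π (Coh.structureModule X) φX φY g) (hp : KRR.IsPull π φY φX p) [CompactSpace Y]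
    {j : ℕ} (hj : j ≤ r) (a : KY) :
    g (p a * φX (KRR.cl X Om) ^ j) = if j = 0 then a else 0 := by
  obtain ⟨hinv⟩ := hOOm
  have hOm := PBundleLib.isFinLocFree_of_inverse hP.invertible hinv
  haveI := PBundleLib.isProper_of_charts fun x => PBundleLib.exists_chart hE hP x
  obtain ⟨B, -⟩ := PBundleLib.exists_pb hP hE hinv hOm
  haveI : IsIso (ClSub.unitToPush π) := ParaFLib.isIso_of_locally_app _ fun x => ⟨⊤, trivial, fun U _ => B.bijective_app U⟩
  obtain ⟨hv0, hv⟩ := Groth.Agent.S4483.result π r E hE O1 q hP Om ⟨AmpleLib.comm Om O1 ≪≫ hinv⟩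
  suffices h : ∀ G : Y.Modules, FlatMod.IsFinLocFree G →
      g (p (φY (KRR.cl Y G)) * φX (KRR.cl X Om) ^ j) = if j = 0 then φY (KRR.cl Y G) else 0 by
    have h0 : (g.comp ((AddMonoidHom.mulRight (φX (KRR.cl X Om) ^ j)).comp p)).comp φY =
        (if j = 0 then AddMonoidHom.id KY else 0).comp φY := KVb.hom_ext fun G hG => by
      show g (p (φY (KRR.cl Y G)) * _) = (if j = 0 then AddMonoidHom.id KY else 0) (φY (KRR.cl Y G))
      rw [h G hG]
      split_ifs <;> rfl
    obtain ⟨z, rfl⟩ := hKY.bijective.2 a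
    have h1 := DFunLike.congr_fun h0 z
    show g (p (φY z) * _) = _
    refine h1.trans ?_
    split_ifs with hj0 <;> simp [hj0]
  intro G hG
  let N := CohB1.tensorPow Om j
  have hN : FlatMod.IsFinLocFree N := (pow_cl hKX hOm j).1
  have hGf := PullbackMod.isFinLocFree_pullback π G hG
  let F := CohB1.tensorMod ((Scheme.Modules.pullback π).obj G) N
  have hF : FlatMod.IsFinLocFree F := DCohLib.isFinLocFree_tensor hGf hN
  let u : ((DCoh.tensorBi (X := X)).obj (Coh.structureModule X)).obj F ≅ F := AmpleLib.unitL F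
  have hRN : ∀ n, 0 < n → IsZero ((Coh.Rpush π n).obj N) := fun n hn => by
    refine Nakai.isZero_of_isZero_toAb (IsZero.of_iso ?_ ((RpushLib.toAbRpushIso π n).app _))
    rcases Nat.eq_zero_or_pos j with hj0 | hj0
    · have h := hv0 0 n hn.ne'
      show IsZero ((Coh.RpushAb π n).obj (Coh.toAb N))
      simp only [N, hj0]
      exact h
    · exact hv j n hj0 (by omega)
  have hacy : ∀ n : ℕ, 0 < n → IsZero ((Coh.Rpush π n).obj F) := fun n hn => by
    obtain ⟨e⟩ := Groth.Agent.S0927.result π N G hG n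
    exact ((Functor.map_isZero ((DCoh.tensorBi (X := Y)).obj G) (hRN n hn)) : _).of_iso e.symm
  obtain ⟨pf⟩ := Nakai.nonempty_proj π N hG
  have key : ∃ T : Y.Modules, FlatMod.IsFinLocFree T ∧ Nonempty ((Scheme.Modules.pushforward π).obj F ≅ T) ∧
      φY (KRR.cl Y T) = if j = 0 then φY (KRR.cl Y G) else 0 := by
    rcases Nat.eq_zero_or_pos j with hj0 | hj0
    · refine ⟨G, hG, ⟨pf.symm ≪≫ AmpleLib.tIso (Iso.refl G) ?_ ≪≫ DCohLib.tensorStructureIso G⟩, (if_pos hj0).symm⟩
      show (Scheme.Modules.pushforward π).obj N ≅ _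
      simp only [N, hj0]
      exact (asIso (ClSub.unitToPush π)).symm
    · have hz : IsZero ((Scheme.Modules.pushforward π).obj N) :=
        (Nakai.isZero_of_isZero_toAb ((hv j 0 hj0 (by omega)).of_iso ((RpushLib.toAbRpushIso π 0).app _))).of_iso
          ((Scheme.Modules.pushforward π).rightDerivedZeroIsoSelf.app N).symm
      have hz' : IsZero (CohB1.tensorMod G ((Scheme.Modules.pushforward π).obj N)) :=
        (Functor.map_isZero ((DCoh.tensorBi (X := Y)).obj G) hz : _)
      refine ⟨_, DCohLib.isFinLocFree_of_isZero hz', ⟨pf.symm⟩, ?_⟩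
      rw [if_neg hj0.ne', KVb.cl_of_isZero hz', map_zero]
  obtain ⟨T, hT, ⟨eT⟩, hTcl⟩ := key
  rw [← hTcl, hp G hG, (pow_cl hKX hOm j).2, hKX.map_mul _ _ hGf hN]
  refine (hg F hF (fun n hn => (hacy n hn).of_iso ((Coh.Rpush π n).mapIso u)) ?_).trans ?_
  · exact DCohLib.isFinLocFree_iso (eT.symm ≪≫ ((Scheme.Modules.pushforward π).mapIso u).symm) hT
  · exact congrArg φY (KVb.cl_iso ((Scheme.Modules.pushforward π).mapIso u ≪≫ eT))

/-- The direct images of the powers of `δ(O(1))`. -/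
theorem push_delta {r : ℕ} (hE : FlatMod.IsFinLocFreeOfRank r E) [ConnectedSpace X] [CompactSpace Y]
    (hP : KRR.IsProjBundle π E O1 q) (hOOm : ClSub.IsInverseOf O1 Om)
    (hKX : KRR.IsModel X KX PX φX) (hKY : KRR.IsModel Y KY PY φY)
    (hg : KDet.IsPushF π (Coh.structureModule X) φX φY g)
    {D D' : Y.Modules} (hD : ExtPow.IsExtPow r E D) (hDf : FlatMod.IsFinLocFree D) (hD'f : FlatMod.IsFinLocFree D')
    (hDD' : ClSub.IsInverseOf D D') :
    (∀ l : ℕ, l < r → g ((1 - φX (KRR.cl X Om)) ^ l) = 1) ∧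
      g ((1 - φX (KRR.cl X Om)) ^ r) = 1 - φY (KRR.cl Y D') := by
  obtain ⟨n, rfl⟩ := exists_rank hE hP
  obtain ⟨p, hp⟩ := KVb.exists_pull π φX hKY
  have hinv := hOOm
  obtain ⟨hinv⟩ := hinv
  have hOm := PBundleLib.isFinLocFree_of_inverse hP.invertible hinv
  set m := φX (KRR.cl X Om) with hm
  have hA : ∀ j ≤ n, ∀ a : KY, g (p a * m ^ j) = if j = 0 then a else 0 := fun j hj a =>
    push_pull_mul_pow hE hP hOOm hKX hKY hg hp hj a
  have hp1 : p 1 = 1 := KVb.pull_one hKX hKY hp
  have hg0 : g (m ^ 0) = 1 := by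
    have h := hA 0 (Nat.zero_le _) 1
    rwa [hp1, one_mul, if_pos rfl] at h
  have hgj : ∀ j, 1 ≤ j → j ≤ n → g (m ^ j) = 0 := fun j h1 h2 => by
    have h := hA j h2 1
    rwa [hp1, one_mul, if_neg (by omega)] at h
  have hbin : ∀ (l : ℕ), g ((1 - m) ^ l) =
      ∑ i ∈ Finset.range (l + 1), (((-1 : ℤ) ^ i) * (l.choose i : ℤ)) • g (m ^ i) := fun l => by
    rw [sub_eq_neg_add, add_pow, map_sum]
    refine Finset.sum_congr rfl fun i _ => ?_
    rw [← map_zsmul, zsmul_eq_mul, neg_pow]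
    push_cast
    rw [one_pow]
    ring_nf
  refine ⟨fun l hl => ?_, ?_⟩
  · rw [hbin, Finset.sum_range_succ', Finset.sum_eq_zero fun i hi => by
      rw [hgj (i + 1) i.succ_pos (by have := Finset.mem_range.1 hi; omega), smul_zero], hg0]
    simp
  · have hℓm : φX (KRR.cl X O1) * m = 1 := by
      rw [hm, hKX.map_mul _ _ (KVb.isFinLocFree_of_rank hP.invertible) hOm, ← hKX.map_one]
      exact congrArg φX (KVb.cl_iso hinv)
    set ℓ := φX (KRR.cl X O1)
    set e := φY (KRR.cl Y E)
    set a := φY (KRR.cl Y D')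
    have hEf := KVb.isFinLocFree_of_rank hE
    have hrel := KVb.tautological_relation hP hE hKY hKX hp
    have hterm : ∀ i ∈ Finset.range (n + 2), p a * m ^ (n + 1) *
        ((-1) ^ i * p (LambdaOps.lam i e) * ℓ ^ (n + 1 - i)) =
        ((-1 : ℤ) ^ i) • (p (a * LambdaOps.lam i e) * m ^ i) := by
      intro i hi
      have hi' := Finset.mem_range.1 hi
      have hsplit : m ^ (n + 1) * ℓ ^ (n + 1 - i) = m ^ i := by
        conv_lhs => rw [show n + 1 = i + (n + 1 - i) by omega, pow_add]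
        rw [show i + (n + 1 - i) - i = n + 1 - i by omega, mul_assoc, ← mul_pow, mul_comm m ℓ, hℓm, one_pow, mul_one]
      rw [KVb.pull_mul hKX hKY hp, zsmul_eq_mul]
      push_cast
      linear_combination ((-1) ^ i * p a * p (LambdaOps.lam i e)) * hsplit
    have hsum : ∑ i ∈ Finset.range (n + 2), (-1 : ℤ) ^ i • g (p (a * LambdaOps.lam i e) * m ^ i) = 0 := by
      have h := congrArg (fun z => g (p a * m ^ (n + 1) * z)) hrel
      simp only [Finset.mul_sum, mul_zero, map_zero, map_sum] at h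
      rw [← h]
      exact Finset.sum_congr rfl fun i hi => by rw [hterm i hi, map_zsmul]
    have hlam : a * LambdaOps.lam (n + 1) e = 1 := by
      rw [hKY.map_lam (n + 1) E D hEf hDf hD, hKY.map_mul _ _ hD'f hDf, ← hKY.map_one]
      obtain ⟨d⟩ := hDD'
      exact congrArg φY (KVb.cl_iso (KVb.tenCommIso D' D ≪≫ d))
    rw [Finset.sum_range_succ, Finset.sum_range_succ', Finset.sum_eq_zero fun i hi => by
      rw [hA (i + 1) (Finset.mem_range.1 hi), if_neg i.succ_ne_zero, smul_zero], hA 0 (Nat.zero_le _), if_pos rfl,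
      LambdaOps.lam_zero, mul_one, hlam, hp1, one_mul, pow_zero, one_smul, zero_add] at hsum
    rw [hbin, Finset.sum_range_succ, Finset.sum_range_succ', Finset.sum_eq_zero fun i hi => by
      rw [hgj (i + 1) i.succ_pos (Finset.mem_range.1 hi), smul_zero], hg0, Nat.choose_self]
    simp only [Nat.choose_zero_right, pow_zero, Nat.cast_one, mul_one, one_smul, zero_add]
    rw [eq_neg_of_add_eq_zero_right hsum]
    ring

end Groth.Agent.BundlePushLib
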