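import Groth.Agent.BundlePushLib.Main
import Groth.Agent.CycLib.Chern.Dual
import Groth.Agent.PBundleLib.Split
import Groth.Agent.CycLib.Chern.Formulas
import Groth.Agent.VBLib.DualOps
import Groth.Agent.LamR.Basic

/-!
# The Segre relation for the direct images of the powers of `δ(O(1))`
-/

set_option autoImplicit false
set_option backward.isDefEq.respectTransparency false
set_option linter.style.haveILetI false
set_option linter.unusedSectionVars false
set_option maxHeartbeats 1000000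

universe v u

open CategoryTheory CategoryTheory.Limits AlgebraicGeometry LambdaRing

noncomputable section

namespace Groth.Agent.BundlePushLib

section Algebra

variable {K : Type v} [CommRing K] [LambdaOps K] (P : PosStructure K)

include P

/-- The relation in terms of the γ-operations. -/
theorem sum_gamma_eq_zero {f m : K} (n : ℕ) (hm : ∀ j : ℕ, 2 ≤ j → LambdaOps.lam j m = 0)
    (hf : LambdaOps.lam (n + 1) f = 0) :
    ∑ k ∈ Finset.range (n + 2), gamma (n + 1 - k) (f + m - ((n + 1 : ℕ) : K)) * (1 - m) ^ k = 0 := by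
  have h1 := LamR.lam_one_pos P
  have hγm : ∀ j, 2 ≤ j → gamma j (m - 1) = 0 := fun j hj => by
    obtain ⟨i, rfl⟩ : ∃ i, j = i + 2 := ⟨j - 2, by omega⟩
    rw [LamR.gamma_eq_lam h1, show m - 1 + ((i + 2 : ℕ) : K) - 1 = m + (i : K) by push_cast; ring,
      LambdaOps.lam_add]
    refine Finset.sum_eq_zero fun a ha => ?_
    rcases lt_or_ge a 2 with h | h
    · rw [LamR.lam_natCast h1, Nat.choose_eq_zero_of_lt (by omega), Nat.cast_zero, mul_zero]
    · rw [hm a h, zero_mul]
  have hγsucc : ∀ j, gamma (j + 1) (f + m - ((n + 1 : ℕ) : K)) =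
      gamma (j + 1) (f - (n : K)) + (m - 1) * gamma j (f - (n : K)) := fun j => by
    rw [show f + m - ((n + 1 : ℕ) : K) = (f - (n : K)) + (m - 1) by push_cast; ring, LamR.gamma_add,
      Finset.sum_range_succ, Finset.sum_range_succ, Finset.sum_eq_zero fun i hi => by
        rw [hγm (j + 1 - i) (by have := Finset.mem_range.1 hi; omega), mul_zero]]
    rw [show j + 1 - j = 1 by omega, Nat.sub_self, LamR.gamma_one, LamR.gamma_zero]
    ring
  have htel : ∀ i, ∑ k ∈ Finset.range (i + 1), gamma (i - k) (f + m - ((n + 1 : ℕ) : K)) * (1 - m) ^ k =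
      gamma i (f - (n : K)) := fun i => by
    induction i with
    | zero => simp [LamR.gamma_zero]
    | succ i ih =>
      have h2 : ∀ k ∈ Finset.range (i + 1),
          gamma (i + 1 - (k + 1)) (f + m - ((n + 1 : ℕ) : K)) * (1 - m) ^ (k + 1) =
          (1 - m) * (gamma (i - k) (f + m - ((n + 1 : ℕ) : K)) * (1 - m) ^ k) := fun k _ => by
        rw [Nat.succ_sub_succ, pow_succ]; ring
      rw [Finset.sum_range_succ', Finset.sum_congr rfl h2, ← Finset.mul_sum, ih, Nat.sub_zero, hγsucc]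
      ring
  rw [show n + 2 = n + 1 + 1 from rfl, htel, LamR.gamma_eq_lam h1,
    show f - (n : K) + ((n + 1 : ℕ) : K) - 1 = f by push_cast; ring, hf]

end Algebra

variable {X Y : Scheme.{u}} {π : X ⟶ Y} {E : Y.Modules} {O1 Om : X.Modules}
  {q : (Scheme.Modules.pullback π).obj E ⟶ O1}
  {KX KY : Type v} [CommRing KX] [LambdaOps KX] [CommRing KY] [LambdaOps KY] {PX : PosStructure KX}
  {PY : PosStructure KY} {φX : SGA6.Kvb X →+ KX} {φY : SGA6.Kvb Y →+ KY} {p : KY →+ KX}

/-- The class of the dual of the bundle splits off the inverse of `O(1)`. -/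
theorem exists_dual_split [IsLocallyNoetherian Y] {n : ℕ} (hE : FlatMod.IsFinLocFreeOfRank (n + 1) E)
    (hP : KRR.IsProjBundle π E O1 q) (hOOm : ClSub.IsInverseOf O1 Om)
    (hKX : KRR.IsModel X KX PX φX) (hp : KRR.IsPull π φY φX p) :
    ∃ f : KX, LambdaOps.lam (n + 1) f = 0 ∧
      p (φY (KRR.cl Y (RefHull.dual E))) = f + φX (KRR.cl X Om) := by
  obtain ⟨hinv⟩ := hOOm
  have hOm := PBundleLib.isFinLocFree_of_inverse hP.invertible hinv
  have hEf := KVb.isFinLocFree_of_rank hE
  have hE' := PullbackMod.isFinLocFree_pullback π E hEf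
  have hOf := KVb.isFinLocFree_of_rank hP.invertible
  haveI := hP.epi
  let S := ShortComplex.mk (kernel.ι q) q (kernel.condition q)
  haveI : Epi S.g := hP.epi
  haveI : Mono S.f := inferInstanceAs (Mono (kernel.ι q))
  have hS : S.ShortExact := { exact := ShortComplex.exact_of_f_is_kernel _ (kernelIsKernel q) }
  have hF : FlatMod.IsFinLocFree S.X₁ := DCohLib.isFinLocFree_of_shortExact hS hE' hOf
  haveI := (PullbackMod.isQCoh_and_isFP_of_isFinLocFree E hEf).1
  haveI := (PullbackMod.isQCoh_and_isFP_of_isFinLocFree _ hE').1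
  haveI := (PullbackMod.isQCoh_and_isFP_of_isFinLocFree _ hOf).1
  have hFr : FlatMod.IsFinLocFreeOfRank n S.X₁ := (KVb.isFinLocFreeOfRank_iff hF n).2 fun x => by
    have h := PullbackMod.fibreRank_eq_of_freeAt _ (KVb.freeAt_mid hS (KVb.isFinLocFree_freeAt hF x) (KVb.isFinLocFree_freeAt hOf x))
    change PullbackMod.fibreRank ((Scheme.Modules.pullback π).obj E) x = _ at h
    change _ = _ + PullbackMod.fibreRank O1 x at h
    rw [DCohLib.fibreRank_pullback, (KVb.isFinLocFreeOfRank_iff hEf _).1 hE,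
      (KVb.isFinLocFreeOfRank_iff hOf 1).1 hP.invertible] at h
    omega
  obtain ⟨hz, hT⟩ := CycLib.Dual.exists_dual_seq hS hFr (PBundleLib.isFinLocFreeOfRank_pullback π hE) hP.invertible
  have hr1 := CycLib.Dual.rank_dd hP.invertible
  have hr2 := CycLib.Dual.rank_dd (PBundleLib.isFinLocFreeOfRank_pullback π hE)
  have hr3 := CycLib.Dual.rank_dd hFr
  have hline : φX (KRR.cl X (CycLib.Dual.dd O1)) = φX (KRR.cl X Om) := by
    haveI := CycLib.Dual.isIso_ev_line (PBundleLib.isInvertible_of_rank hP.invertible)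
    have h1 : φX (KRR.cl X (CycLib.Dual.dd O1)) * φX (KRR.cl X O1) = 1 := by
      rw [hKX.map_mul _ _ (KVb.isFinLocFree_of_rank hr1) hOf, ← hKX.map_one]
      exact congrArg φX (KVb.cl_iso (asIso (StalkHomLib.ev O1 (Coh.structureModule X))))
    have h2 : φX (KRR.cl X O1) * φX (KRR.cl X Om) = 1 := by
      rw [hKX.map_mul _ _ hOf hOm, ← hKX.map_one]
      exact congrArg φX (KVb.cl_iso hinv)
    linear_combination (φX (KRR.cl X Om)) * h1 - (φX (KRR.cl X (CycLib.Dual.dd O1))) * h2
  refine ⟨φX (KRR.cl X (CycLib.Dual.dd S.X₁)), ?_, ?_⟩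
  · rcases Nat.eq_zero_or_pos n with hr | hr
    · subst hr
      rw [KVb.cl_of_isZero (KVb.isZero_of_rank_zero (KVb.isFinLocFree_of_rank hr3)
        ((KVb.isFinLocFreeOfRank_iff (KVb.isFinLocFree_of_rank hr3) 0).1 hr3)), map_zero]
      exact LamR.lam_zero_right (Nat.succ_ne_zero 0)
    · exact PX.lam_eq_zero _ ((hKX.mem_pos_iff _).2 ⟨n, _, hr, hr3, rfl⟩) (n + 1)
        (by rw [hKX.aug_cl n _ hr3]; exact_mod_cast Nat.lt_succ_self n)
  · obtain ⟨a⟩ := VBLib.DualOps.nonempty_dd_iso_dual hEf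
    obtain ⟨b⟩ := CycLib.nonempty_pullback_dd π hEf
    have hd : φX (KRR.cl X (CycLib.Dual.dd ((Scheme.Modules.pullback π).obj E))) =
        p (φY (KRR.cl Y (RefHull.dual E))) := by
      have hfd : FlatMod.IsFinLocFree (RefHull.dual E) :=
        DCohLib.isFinLocFree_iso a (KVb.isFinLocFree_of_rank (CycLib.Dual.rank_dd hE))
      rw [hp _ hfd]
      exact congrArg φX (KVb.cl_iso (b.symm ≪≫ (Scheme.Modules.pullback π).mapIso a))
    have hadd : φX (KRR.cl X (CycLib.Dual.dd ((Scheme.Modules.pullback π).obj E))) =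
        φX (KRR.cl X (CycLib.Dual.dd O1)) + φX (KRR.cl X (CycLib.Dual.dd S.X₁)) := by
      rw [← map_add]
      exact congrArg φX (KVb.cl_add hT (KVb.isFinLocFree_of_rank hr1) (KVb.isFinLocFree_of_rank hr2)
        (KVb.isFinLocFree_of_rank hr3))
    rw [← hd, hadd, hline, add_comm]

/-- The projection formula for classes from the base. -/
theorem push_pull_mul [HasInjectiveResolutions X.Modules] {g : KX →+ KY} {n : ℕ}
    (hE : FlatMod.IsFinLocFreeOfRank (n + 1) E) [CompactSpace Y]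
    (hP : KRR.IsProjBundle π E O1 q) (hOOm : ClSub.IsInverseOf O1 Om)
    (hKX : KRR.IsModel X KX PX φX) (hKY : KRR.IsModel Y KY PY φY)
    (hg : KDet.IsPushF π (Coh.structureModule X) φX φY g) (hp : KRR.IsPull π φY φX p) (a : KY) (x : KX) :
    g (p a * x) = a * g x := by
  have hinv := hOOm
  obtain ⟨hinv⟩ := hinv
  have hOm := PBundleLib.isFinLocFree_of_inverse hP.invertible hinv
  let eX := AddEquiv.ofBijective φX hKX.bijective
  set m := φX (KRR.cl X Om) with hm
  let G : Fin (n + 1) → (SGA6.Kvb Y →+ SGA6.Kvb X) := fun i =>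
    eX.symm.toAddMonoidHom.comp ((AddMonoidHom.mulRight (m ^ (i : ℕ))).comp (p.comp φY))
  have hG : ∀ (i : Fin (n + 1)) (N : Y.Modules), FlatMod.IsFinLocFree N →
      G i (KRR.cl Y N) = KRR.cl X (CohB1.tensorMod (CohB1.tensorPow Om (i : ℕ)) ((Scheme.Modules.pullback π).obj N)) := by
    intro i N hN
    refine hKX.bijective.1 ((eX.apply_symm_apply _).trans ?_)
    show p (φY (KRR.cl Y N)) * m ^ (i : ℕ) = _
    rw [hp N hN, hm, (pow_cl hKX hOm i).2, mul_comm, hKX.map_mul _ _ (pow_cl hKX hOm i).1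
      (PullbackMod.isFinLocFree_pullback π N hN)]
    rfl
  obtain ⟨z, rfl⟩ := hKX.bijective.2 x
  obtain ⟨c, rfl⟩ := (PBundleLib.bijective_kvb hP hE hinv G hG).2 z
  have hφ : ∀ i, φX (G i (c i)) = p (φY (c i)) * m ^ (i : ℕ) := fun i => eX.apply_symm_apply _
  simp only [map_sum, Finset.mul_sum, hφ]
  refine Finset.sum_congr rfl fun i _ => ?_
  rw [← mul_assoc, ← KVb.pull_mul hKX hKY hp,
    push_pull_mul_pow hE hP hOOm hKX hKY hg hp (Nat.lt_succ_iff.1 i.2),
    push_pull_mul_pow hE hP hOOm hKX hKY hg hp (Nat.lt_succ_iff.1 i.2)]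
  split_ifs
  · rfl
  · rw [mul_zero]

/-- The Segre relation. -/
theorem segre_relation [HasInjectiveResolutions X.Modules] [IsNoetherian Y] [ConnectedSpace X] {g : KX →+ KY} {r : ℕ}
    (hE : FlatMod.IsFinLocFreeOfRank r E) (hP : KRR.IsProjBundle π E O1 q) (hOOm : ClSub.IsInverseOf O1 Om)
    (hKX : KRR.IsModel X KX PX φX) (hKY : KRR.IsModel Y KY PY φY)
    (hg : KDet.IsPushF π (Coh.structureModule X) φX φY g) (i : ℕ) :
    ∑ k ∈ Finset.range (r + 1),
      gamma (r - k) (φY (KRR.cl Y (RefHull.dual E)) - (r : KY)) * g ((1 - φX (KRR.cl X Om)) ^ (i + k)) = 0 := by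
  obtain ⟨n, rfl⟩ := exists_rank hE hP
  obtain ⟨p, hp⟩ := KVb.exists_pull π φX hKY
  obtain ⟨f, hf, hsplit⟩ := exists_dual_split hE hP hOOm hKX hp
  obtain ⟨hinv⟩ := id hOOm
  have hOm := PBundleLib.isFinLocFree_of_inverse hP.invertible hinv
  set m := φX (KRR.cl X Om) with hmdef
  have hm : ∀ j : ℕ, 2 ≤ j → LambdaOps.lam j m = 0 := fun j hj => by
    have h1 : FlatMod.IsFinLocFreeOfRank 1 Om := CurveLib.isFinLocFreeOfRank_one
      (AmpleLib.isInvertible_of_tensor_iso (AmpleLib.comm Om O1 ≪≫ hinv))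
    exact PX.lam_eq_zero _ ((hKX.mem_pos_iff _).2 ⟨1, Om, le_rfl, h1, rfl⟩) j
      (by rw [hKX.aug_cl 1 Om h1]; exact_mod_cast hj)
  have hrel := sum_gamma_eq_zero PX n hm hf
  rw [← hsplit] at hrel
  have hlam := KVb.isLambdaHom_pull hKX hKY hp
  have hgam : ∀ j, gamma j (p (φY (KRR.cl Y (RefHull.dual E))) - ((n + 1 : ℕ) : KX)) =
      p (gamma j (φY (KRR.cl Y (RefHull.dual E)) - ((n + 1 : ℕ) : KY))) := fun j => by
    let P' := KVb.pullRing hKX hKY hp
    have hpP : ∀ y, p y = P' y := fun _ => rfl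
    rw [hpP, hpP, ← map_natCast P', ← map_sub P']
    simp only [gamma]
    split_ifs
    · exact (map_one P').symm
    · rw [map_sum]
      refine Finset.sum_congr rfl fun b _ => ?_
      rw [map_mul, map_natCast]
      split_ifs
      · rw [map_zero]
      · rw [← hlam]
  simp only [hgam] at hrel
  have h := congrArg (fun z => g ((1 - m) ^ i * z)) hrel
  simp only [Finset.mul_sum, mul_zero, map_zero, map_sum] at h
  rw [← h]
  refine Finset.sum_congr rfl fun k _ => ?_
  rw [← push_pull_mul hE hP hOOm hKX hKY hg hp, pow_add]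
  congr 1
  ring

end Groth.Agent.BundlePushLib
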